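import Groth.Agent.VerlindeC52.Orth
import Mathlib.LinearAlgebra.Vandermonde
import Mathlib.LinearAlgebra.Matrix.SchurComplement
import Mathlib.Analysis.SpecialFunctions.Trigonometric.Basic

namespace Groth.Agent.VerlindeC52

open Finset Complex

variable {r k : ℕ}

/-- The staircase exponents. -/
def stair (r : ℕ) : Fin r → ℤ := fun i => ((r - 1 - (i : ℕ) : ℕ) : ℤ)

/-- Residues of a natural vector. -/
def res (N : ℕ) (v : Fin r → ℕ) : Fin r → ZMod N := fun j => (v j : ZMod N)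

theorem sgn_mul_self (σ : Equiv.Perm (Fin r)) :
    ((Equiv.Perm.sign σ : ℤ) : ℂ) * ((Equiv.Perm.sign σ : ℤ) : ℂ) = 1 := by
  rw [← Int.cast_mul, ← Units.val_mul, Int.units_mul_self, Units.val_one, Int.cast_one]

theorem det_pow_eq_zalt [NeZero (r + k)] (n : Fin r → ℕ) (v : Fin r → ℕ) (z : Fin r → ℂ)
    (hz : ∀ j, z j = Complex.exp (2 * Real.pi * I * (v j : ℂ) / ((r : ℂ) + k))) :
    (Matrix.of fun i j : Fin r => z j ^ n i).det =
      zalt (N := r + k) (fun i => (n i : ℤ)) (res (r + k) v) := by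
  unfold zalt
  congr 1
  ext i j
  simp only [Matrix.of_apply, hz, res, ← Complex.exp_nat_mul]
  rw [show ((n i : ℤ) : ZMod (r + k)) * (v j : ZMod (r + k)) = (((n i * v j : ℕ) : ℤ) : ZMod (r + k)) by
    push_cast; ring, ZMod.stdAddChar_coe]
  congr 1; push_cast; ring

theorem det_stair_eq_zalt [NeZero (r + k)] (v : Fin r → ℕ) (z : Fin r → ℂ)
    (hz : ∀ j, z j = Complex.exp (2 * Real.pi * I * (v j : ℂ) / ((r : ℂ) + k))) :
    (Matrix.of fun i j : Fin r => z j ^ (r - 1 - (i : ℕ))).det =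
      zalt (N := r + k) (stair r) (res (r + k) v) :=
  det_pow_eq_zalt (fun i => r - 1 - (i : ℕ)) v z hz

variable {N : ℕ} [NeZero N]

theorem zalt_rev (A : Fin r → ℤ) (p : Fin r → ZMod N) :
    zalt (fun i => A (Fin.rev i)) p = ((Equiv.Perm.sign (Fin.revPerm (n := r)) : ℤ) : ℂ) * zalt A p :=
  Matrix.det_permute Fin.revPerm (Matrix.of fun i j => ZMod.stdAddChar ((A i : ZMod N) * p j))

theorem zalt_rev_const (A : Fin r → ℤ) (c : ℤ) (p : Fin r → ZMod N) :
    zalt (fun i => c - A (Fin.rev i)) p = ((Equiv.Perm.sign (Fin.revPerm (n := r)) : ℤ) : ℂ) *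
      ((∏ j, ZMod.stdAddChar ((c : ZMod N) * p j)) * zalt (fun i => - A i) p) := by
  have h := zalt_sub_const (N := N) (fun i => - A i) (-c) p
  simp only [sub_neg_eq_add, Int.cast_neg, neg_neg] at h
  rw [← h, ← zalt_rev]
  congr 1
  ext i; ring

theorem prod_stdAddChar (c : ℤ) (v : Fin r → ℕ) :
    ∏ j, ZMod.stdAddChar (N := N) ((c : ZMod N) * res N v j) =
      Complex.exp (2 * Real.pi * I * (c : ℂ) * ((∑ j, v j : ℕ) : ℂ) / (N : ℂ)) := by
  have : ∀ j, ZMod.stdAddChar (N := N) ((c : ZMod N) * res N v j) =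
      Complex.exp (2 * Real.pi * I * (c : ℂ) * ((v j : ℕ) : ℂ) / (N : ℂ)) := by
    intro j
    rw [show (c : ZMod N) * res N v j = ((c * (v j : ℤ) : ℤ) : ZMod N) by simp [res], ZMod.stdAddChar_coe]
    congr 1; push_cast; ring
  rw [Finset.prod_congr rfl fun j _ => this j, ← Complex.exp_sum]
  congr 1
  rw [← Finset.sum_div, ← Finset.mul_sum]
  push_cast; ring

theorem res_injective (v : Fin r → ℕ) (hv : Function.Injective v) (hlt : ∀ i, v i < N) :
    Function.Injective (res N v) := by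
  intro a b h
  have := congrArg ZMod.val h
  simp only [res, ZMod.val_natCast, Nat.mod_eq_of_lt (hlt a), Nat.mod_eq_of_lt (hlt b)] at this
  exact hv this

theorem zalt_stair_eq (p : Fin r → ZMod N) :
    zalt (stair r) p = ((Equiv.Perm.sign (Fin.revPerm (n := r)) : ℤ) : ℂ) *
      (Matrix.vandermonde fun j => ZMod.stdAddChar (p j)).det := by
  rw [← Matrix.det_transpose (Matrix.vandermonde _)]
  rw [← Matrix.det_permute]
  unfold zalt
  congr 1
  ext i j
  simp only [Matrix.submatrix_apply, Matrix.transpose_apply, Matrix.vandermonde_apply, Matrix.of_apply,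
    Fin.revPerm_apply, id, Fin.val_rev, ← AddChar.map_nsmul_eq_pow, nsmul_eq_mul, stair, Int.cast_natCast]
  rw [show r - 1 - (i : ℕ) = r - ((i : ℕ) + 1) by omega]

theorem zalt_stair_ne_zero (p : Fin r → ZMod N) (hp : Function.Injective p) :
    zalt (stair r) p ≠ 0 := by
  rw [zalt_stair_eq]
  refine mul_ne_zero ?_ (Matrix.det_vandermonde_ne_zero_iff.mpr (ZMod.injective_stdAddChar.comp hp))
  intro h
  have := sgn_mul_self (Fin.revPerm (n := r))
  rw [h, mul_zero] at this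
  exact zero_ne_one this

theorem vdm_eq (v : Fin r → ℕ) :
    zalt (N := N) (stair r) (res N v) * zalt (N := N) (fun i => - stair r i) (res N v) =
      ((∏ p ∈ (Finset.univ : Finset (Fin r × Fin r)).filter (fun p => p.1 < p.2),
        ((2 : ℝ) * Real.sin (Real.pi * ((v p.1 : ℝ) - (v p.2 : ℝ)) / (N : ℝ))) ^ 2 : ℝ) : ℂ) := by
  have hneg : zalt (N := N) (fun i => - stair r i) (res N v) = zalt (N := N) (stair r) (fun j => - res N v j) := by
    unfold zalt; congr 1; ext i j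
    simp [Matrix.of_apply]
  rw [hneg, zalt_stair_eq, zalt_stair_eq, mul_mul_mul_comm, sgn_mul_self, one_mul, Matrix.det_vandermonde,
    Matrix.det_vandermonde, ← Finset.prod_mul_distrib, Complex.ofReal_prod]
  rw [Finset.prod_filter, ← Finset.univ_product_univ, Finset.prod_product]
  refine Finset.prod_congr rfl fun a _ => ?_
  rw [← Finset.prod_mul_distrib, ← Finset.prod_filter, Finset.filter_lt_eq_Ioi]
  refine Finset.prod_congr rfl fun b _ => ?_
  dsimp only
  have hr : ∀ j, res N v j = (((v j : ℕ) : ℤ) : ZMod N) := fun j => by simp [res]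
  rw [hr, hr, ← Int.cast_neg, ← Int.cast_neg, ZMod.stdAddChar_coe, ZMod.stdAddChar_coe, ZMod.stdAddChar_coe,
    ZMod.stdAddChar_coe]
  push_cast
  rw [Complex.sin]
  set u : ℂ := (Real.pi : ℂ) * ((v a : ℂ) - (v b : ℂ)) / (N : ℂ) with hu
  have e : ∀ x y : ℂ, Complex.exp x * Complex.exp y = Complex.exp (x + y) := fun x y => (Complex.exp_add x y).symm
  simp only [mul_sub, sub_mul, e]
  have h3 : ∀ x y : ℂ, (x * I - y * I) ^ 2 = -(x * x - 2 * (x * y) + y * y) := fun x y => by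
    linear_combination (x - y) ^ 2 * Complex.I_sq
  rw [mul_pow, div_pow, h3, e, e, e]
  rw [show 2 * (Real.pi : ℂ) * I * (v b : ℂ) / (N : ℂ) + 2 * Real.pi * I * (-(v b : ℂ)) / (N : ℂ) = 0 by ring,
    show 2 * (Real.pi : ℂ) * I * (v a : ℂ) / (N : ℂ) + 2 * Real.pi * I * (-(v a : ℂ)) / (N : ℂ) = 0 by ring,
    show 2 * (Real.pi : ℂ) * I * (v b : ℂ) / (N : ℂ) + 2 * Real.pi * I * (-(v a : ℂ)) / (N : ℂ) = -u * I + -u * I by
      rw [hu]; ring,
    show 2 * (Real.pi : ℂ) * I * (v a : ℂ) / (N : ℂ) + 2 * Real.pi * I * (-(v b : ℂ)) / (N : ℂ) = u * I + u * I by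
      rw [hu]; ring,
    show -u * I + u * I = 0 by ring, Complex.exp_zero]
  ring

theorem stair_vdm (v : Fin r → ℕ) :
    ((∏ p ∈ (Finset.univ : Finset (Fin r × Fin r)).filter (fun p => p.1 < p.2),
        ((2 : ℝ) * Real.sin (Real.pi * ((v p.1 : ℝ) - (v p.2 : ℝ)) / (N : ℝ))) ^ 2 : ℝ) : ℂ) =
      ((Equiv.Perm.sign (Fin.revPerm (n := r)) : ℤ) : ℂ) *
        Complex.exp (-(2 * Real.pi * I * ((r - 1 : ℕ) : ℂ) * ((∑ j, v j : ℕ) : ℂ) / (N : ℂ))) *
        zalt (N := N) (stair r) (res N v) ^ 2 := by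
  rw [← vdm_eq]
  have h := zalt_rev_const (N := N) (fun i => - stair r i) (-((r - 1 : ℕ) : ℤ)) (res N v)
  simp only [neg_neg] at h
  have h2 : (fun i => -((r - 1 : ℕ) : ℤ) - -stair r (Fin.rev i)) = fun i => - stair r i := by
    ext i
    simp only [stair, Fin.val_rev]
    have := i.isLt
    omega
  rw [h2, prod_stdAddChar] at h
  rw [h, show (2 : ℂ) * Real.pi * I * ((-((r - 1 : ℕ) : ℤ) : ℤ) : ℂ) * ((∑ j, v j : ℕ) : ℂ) / (N : ℂ) =
    -(2 * Real.pi * I * ((r - 1 : ℕ) : ℂ) * ((∑ j, v j : ℕ) : ℂ) / (N : ℂ)) by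
      rw [Int.cast_neg, Int.cast_natCast]; ring]
  ring

theorem det_smul_one_sub (hr : 1 ≤ r) (u w : Fin r → ℂ) (h : ∀ i, w i * u i = 1) (M : ℂ) (hM : M ≠ 0) :
    (Matrix.of fun i l : Fin r => (if i = l then M else 0) - u i * w l).det = M ^ (r - 1) * (M - r) := by
  have : (Matrix.of fun i l : Fin r => (if i = l then M else 0) - u i * w l) =
      M • (1 + Matrix.replicateCol Unit (fun i => -(u i) / M) * Matrix.replicateRow Unit w) := by
    ext i l
    simp [Matrix.smul_apply, Matrix.one_apply, Matrix.mul_apply, mul_add]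
    split_ifs <;> field_simp <;> ring
  rw [this, Matrix.det_smul, Matrix.det_one_add_replicateCol_mul_replicateRow, Fintype.card_fin, dotProduct]
  have hsum : ∑ i, w i * (-(u i) / M) = -(r : ℂ) / M := by
    have : ∀ i, w i * (-(u i) / M) = -1 / M := fun i => by
      rw [mul_div_assoc', mul_neg, h i]
    rw [Finset.sum_congr rfl fun i _ => this i, Finset.sum_const, Finset.card_univ, Fintype.card_fin, nsmul_eq_mul]
    ring
  rw [hsum]
  obtain ⟨q, rfl⟩ := Nat.exists_eq_add_of_le' hr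
  rw [pow_succ, Nat.add_sub_cancel]
  field_simp
  ring

end Groth.Agent.VerlindeC52
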