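import Mathlib.Data.Fintype.Pi
import Mathlib.Data.Complex.Basic
import Mathlib.Order.Monotone.Basic
import Mathlib.Algebra.BigOperators.Group.Finset.Basic
import Mathlib.Tactic.Linarith
import Mathlib.Order.Fin.Basic

namespace Groth.Agent.VerlindeC52

open Finset

theorem sum_antitone_eq_strictAnti {r M L : ℕ} (hr : 1 ≤ r) (hL : L + 1 = M + r)
    (P : (Fin r → ℕ) → Prop) (Q : (Fin r → ℕ) → Prop)
    (hPQ : ∀ μ : Fin r → ℕ, P μ ↔ Q (fun i => μ i + (r - 1 - (i : ℕ))))
    [DecidablePred (fun μ : Fin r → Fin M => Antitone μ ∧ P (fun i => (μ i : ℕ)))]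
    [DecidablePred (fun e : Fin r → Fin L => StrictAnti e ∧ Q (fun i => (e i : ℕ)))]
    (F : (Fin r → ℕ) → ℂ) :
    ∑ μ ∈ (univ : Finset (Fin r → Fin M)).filter (fun μ : Fin r → Fin M => Antitone μ ∧ P (fun i => (μ i : ℕ))),
        F (fun i => (μ i : ℕ) + (r - 1 - (i : ℕ))) =
      ∑ e ∈ (univ : Finset (Fin r → Fin L)).filter (fun e : Fin r → Fin L => StrictAnti e ∧ Q (fun i => (e i : ℕ))),
        F (fun i => (e i : ℕ)) := by
  refine Finset.sum_bij (fun μ _ => fun i => ⟨(μ i : ℕ) + (r - 1 - (i : ℕ)), by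
    have := (μ i).isLt; omega⟩) ?_ ?_ ?_ (fun μ _ => rfl)
  · intro μ hμ
    simp only [mem_filter, mem_univ, true_and] at hμ ⊢
    refine ⟨fun i j hij => ?_, (hPQ _).mp hμ.2⟩
    rw [Fin.lt_def]
    have := Fin.le_def.mp (hμ.1 hij.le)
    have := Fin.lt_def.mp hij
    have := j.isLt
    simp only
    omega
  · intro μ _ μ' _ h
    funext i
    have := congrArg (fun f : Fin r → Fin L => (f i : ℕ)) h
    simp only at this
    exact Fin.ext (by omega)
  · intro e he
    simp only [mem_filter, mem_univ, true_and] at he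
    have hlow : ∀ d : ℕ, ∀ i j : Fin r, (j : ℕ) = (i : ℕ) + d → (e j : ℕ) + d ≤ e i := by
      intro d
      induction d with
      | zero => intro i j h; rw [show j = i from Fin.ext (by omega)]; omega
      | succ d ih =>
        intro i j h
        have hj : (i : ℕ) + d < r := by have := j.isLt; omega
        have h1 := ih i ⟨(i : ℕ) + d, hj⟩ rfl
        have h2 := Fin.lt_def.mp (he.1 (show (⟨(i : ℕ) + d, hj⟩ : Fin r) < j from Fin.lt_def.mpr (by simp; omega)))
        omega
    have hge : ∀ i : Fin r, r - 1 - (i : ℕ) ≤ e i := by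
      intro i
      have := hlow (r - 1 - (i : ℕ)) i ⟨r - 1, by omega⟩ (by have := i.isLt; simp; omega)
      omega
    have hub : ∀ i : Fin r, (e i : ℕ) - (r - 1 - (i : ℕ)) < M := by
      intro i
      have := hlow (i : ℕ) ⟨0, by omega⟩ i (by simp)
      have := (e ⟨0, by omega⟩).isLt
      have := hge i; have := i.isLt
      omega
    refine ⟨fun i => ⟨(e i : ℕ) - (r - 1 - (i : ℕ)), hub i⟩, ?_, ?_⟩
    · simp only [mem_filter, mem_univ, true_and]
      refine ⟨fun i j hij => ?_, ?_⟩
      · rw [Fin.le_def]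
        have hij' := Fin.le_def.mp hij
        have := hlow ((j : ℕ) - i) i j (by omega)
        have := hge i; have := hge j; have := j.isLt
        simp only
        omega
      · rw [hPQ]
        have : (fun i => (e i : ℕ) - (r - 1 - (i : ℕ)) + (r - 1 - (i : ℕ))) = fun i => (e i : ℕ) := by
          funext i; have := hge i; omega
        rw [this]
        exact he.2
    · funext i
      exact Fin.ext (by have := hge i; simp only; omega)

end Groth.Agent.VerlindeC52
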