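import Mathlib.Analysis.SpecialFunctions.Complex.CircleAddChar
import Mathlib.NumberTheory.LegendreSymbol.AddCharacter
import Mathlib.LinearAlgebra.Matrix.Determinant.Basic

namespace Groth.Agent.VerlindeC52

open Finset

variable {r : ℕ}

section Sums

variable {T : Type*} [Fintype T] [DecidableEq T]

theorem sum_injective_eq_perm_mul [LinearOrder T] (f : (Fin r → T) → ℂ)
    (hs : ∀ (σ : Equiv.Perm (Fin r)) p, f (p ∘ σ) = f p)
    (h0 : ∀ p, ¬ Function.Injective p → f p = 0)
    [DecidablePred (fun p : Fin r → T => StrictAnti p)] :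
    ∑ p, f p = (r.factorial : ℂ) * ∑ v ∈ univ.filter (fun v => StrictAnti v), f v := by
  classical
  have h1 : ∑ p, f p = ∑ p ∈ univ.filter (fun p : Fin r → T => Function.Injective p), f p := by
    rw [Finset.sum_filter]
    refine Finset.sum_congr rfl fun p _ => ?_
    split_ifs with h
    · rfl
    · exact h0 p h
  rw [h1, Finset.mul_sum]
  have h2 : ∀ v : Fin r → T, (r.factorial : ℂ) * f v = ∑ σ : Equiv.Perm (Fin r), f (v ∘ σ) := by
    intro v
    simp only [hs, Finset.sum_const, Finset.card_univ, Fintype.card_perm, Fintype.card_fin, nsmul_eq_mul]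
  simp only [h2]
  rw [← Finset.sum_product']
  symm
  refine Finset.sum_bij (fun x _ => x.1 ∘ x.2) ?_ ?_ ?_ (fun _ _ => rfl)
  · rintro ⟨v, σ⟩ hx
    simp only [Finset.mem_product, mem_filter, mem_univ, true_and, and_true] at hx ⊢
    exact hx.injective.comp σ.injective
  · rintro ⟨v, σ⟩ hx ⟨w, τ⟩ hy h
    simp only [Finset.mem_product, mem_filter, mem_univ, true_and, and_true] at hx hy h
    have hr : Set.range v = Set.range w := by
      have := congrArg Set.range h
      rwa [σ.surjective.range_comp, τ.surjective.range_comp] at this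
    obtain rfl : v = w := (StrictAnti.range_inj hx hy).mp hr
    have : ⇑σ = ⇑τ := funext fun i => hx.injective (congrFun h i)
    rw [DFunLike.coe_injective this]
  · intro p hp
    simp only [mem_filter, mem_univ, true_and] at hp
    have hc : (Finset.image p univ).card = r := by
      rw [Finset.card_image_of_injective _ hp]; simp
    let e := (Finset.image p univ).orderEmbOfFin hc
    have he : ∀ j, ∃ i, e (Fin.rev i) = p j := fun j => by
      have hm : p j ∈ Finset.image p univ := Finset.mem_image_of_mem p (mem_univ j)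
      rw [← Finset.mem_coe, ← Finset.range_orderEmbOfFin _ hc] at hm
      obtain ⟨i, hi⟩ := hm
      exact ⟨Fin.rev i, by rw [Fin.rev_rev]; exact hi⟩
    choose s hs' using he
    have hsi : Function.Injective s := fun a b h => hp (by rw [← hs' a, ← hs' b, h])
    refine ⟨(fun i => e (Fin.rev i), Equiv.ofBijective s (Finite.injective_iff_bijective.mp hsi)), ?_, ?_⟩
    · simp only [Finset.mem_product, mem_filter, mem_univ, true_and, and_true]
      exact fun a b hab => e.strictMono (Fin.rev_lt_rev.mpr hab)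
    · exact funext hs'

theorem sum_det_mul_det (M G : Fin r → T → ℂ) :
    ∑ p : Fin r → T, (Matrix.of fun i j => M i (p j)).det * (Matrix.of fun i j => G i (p j)).det =
      (r.factorial : ℂ) * (Matrix.of fun i l => ∑ t, M i t * G l t).det := by
  classical
  simp only [Matrix.det_apply', Finset.sum_mul_sum, Matrix.of_apply]
  rw [Finset.sum_comm]
  simp_rw [Finset.sum_comm (s := (univ : Finset (Fin r → T)))]
  have h : ∀ (σ τ : Equiv.Perm (Fin r)),
      (∑ p : Fin r → T, (((Equiv.Perm.sign σ : ℤ) : ℂ) * ∏ j, M (σ j) (p j)) *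
        (((Equiv.Perm.sign τ : ℤ) : ℂ) * ∏ j, G (τ j) (p j))) =
      ((Equiv.Perm.sign τ : ℤ) : ℂ) * (((Equiv.Perm.sign σ : ℤ) : ℂ) *
        ∏ j, (Matrix.of fun i l => ∑ t, M i t * G l t).submatrix id τ (σ j) j) := by
    intro σ τ
    simp only [Matrix.submatrix_apply, Matrix.of_apply, id]
    rw [Fintype.prod_sum, Finset.mul_sum, Finset.mul_sum]
    refine Finset.sum_congr rfl fun p _ => ?_
    rw [Finset.prod_mul_distrib]; ring
  simp only [h]
  rw [Finset.sum_comm]
  have hτ : ∀ τ : Equiv.Perm (Fin r),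
      ∑ σ : Equiv.Perm (Fin r), ((Equiv.Perm.sign τ : ℤ) : ℂ) * (((Equiv.Perm.sign σ : ℤ) : ℂ) *
        ∏ j, (Matrix.of fun i l => ∑ t, M i t * G l t).submatrix id τ (σ j) j) =
      (Matrix.of fun i l => ∑ t, M i t * G l t).det := by
    intro τ
    rw [← Finset.mul_sum, ← Matrix.det_apply', Matrix.det_permute', ← mul_assoc, ← Int.cast_mul,
      ← Units.val_mul, Int.units_mul_self, Units.val_one, Int.cast_one, one_mul]
  simp only [hτ, Finset.sum_const, Finset.card_univ, Fintype.card_perm, Fintype.card_fin, nsmul_eq_mul]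
  rw [Matrix.det_apply']
  simp [Matrix.of_apply]

end Sums

section Cyclic

variable {N : ℕ} [NeZero N]

/-- The alternant at roots of unity. -/
noncomputable def zalt (A : Fin r → ℤ) (p : Fin r → ZMod N) : ℂ :=
  (Matrix.of fun i j => ZMod.stdAddChar ((A i : ZMod N) * p j)).det

theorem zalt_perm (A : Fin r → ℤ) (p : Fin r → ZMod N) (σ : Equiv.Perm (Fin r)) :
    zalt A (p ∘ σ) = ((Equiv.Perm.sign σ : ℤ) : ℂ) * zalt A p :=
  Matrix.det_permute' σ (Matrix.of fun i j => ZMod.stdAddChar ((A i : ZMod N) * p j))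

theorem zalt_eq_zero (A : Fin r → ℤ) (p : Fin r → ZMod N) (h : ¬ Function.Injective p) :
    zalt A p = 0 := by
  simp only [Function.Injective, not_forall] at h
  obtain ⟨a, b, hab, hne⟩ := h
  exact Matrix.det_zero_of_column_eq hne fun i => by simp [hab]

theorem zalt_shift (A : Fin r → ℤ) (p : Fin r → ZMod N) (c : ZMod N) :
    zalt A (fun j => p j + c) = ZMod.stdAddChar (((∑ i, A i : ℤ) : ZMod N) * c) * zalt A p := by
  have : (Matrix.of fun i j => ZMod.stdAddChar ((A i : ZMod N) * (p j + c))) =
      Matrix.of fun i j => ZMod.stdAddChar ((A i : ZMod N) * c) *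
        (Matrix.of fun i j => ZMod.stdAddChar ((A i : ZMod N) * p j)) i j := by
    ext i j
    simp only [Matrix.of_apply]
    rw [mul_add, AddChar.map_add_eq_mul, mul_comm]
  rw [zalt, this, Matrix.det_mul_column, Int.cast_sum, Finset.sum_mul]
  congr 1
  induction (Finset.univ : Finset (Fin r)) using Finset.induction_on with
  | empty => simp [AddChar.map_zero_eq_one]
  | insert a s ha ih => rw [Finset.prod_insert ha, Finset.sum_insert ha, AddChar.map_add_eq_mul, ih]

theorem sum_stdAddChar (a : ZMod N) :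
    ∑ t : ZMod N, ZMod.stdAddChar (a * t) = if a = 0 then (N : ℂ) else 0 := by
  have := AddChar.sum_mulShift a (ZMod.isPrimitive_stdAddChar N)
  simp only [ZMod.card] at this
  simp only [mul_comm a]
  rw [this]
  split_ifs <;> simp

theorem sum_zalt_mul (A B : Fin r → ℤ) :
    ∑ p : Fin r → ZMod N, zalt A p * zalt B p = (r.factorial : ℂ) *
      (Matrix.of fun i l => if ((A i + B l : ℤ) : ZMod N) = 0 then (N : ℂ) else 0).det := by
  classical
  simp only [zalt]
  refine (sum_det_mul_det (T := ZMod N) (r := r)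
    (fun i t => ZMod.stdAddChar ((A i : ZMod N) * t))
    (fun i t => ZMod.stdAddChar ((B i : ZMod N) * t))).trans ?_
  congr 2
  ext i l
  simp only [Matrix.of_apply, ← AddChar.map_add_eq_mul, ← add_mul]
  rw [sum_stdAddChar, Int.cast_add]

theorem det_match_eq_zero (A B : Fin r → ℤ) (hA : Function.Injective fun i => (A i : ZMod N))
    (h : ∀ π : Equiv.Perm (Fin r), ∃ i, ((A i + B (π i) : ℤ) : ZMod N) ≠ 0) :
    (Matrix.of fun i l => if ((A i + B l : ℤ) : ZMod N) = 0 then (N : ℂ) else 0).det = 0 := by
  classical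
  by_cases hrow : ∀ i, ∃ l, ((A i + B l : ℤ) : ZMod N) = 0
  · exfalso
    choose π hπ using hrow
    have hinj : Function.Injective π := fun a b hab => hA (by
      have e1 := hπ a; have e2 := hπ b
      rw [hab] at e1
      simp only [Int.cast_add] at e1 e2
      exact add_right_cancel (e1.trans e2.symm))
    obtain ⟨i, hi⟩ := h (Equiv.ofBijective π (Finite.injective_iff_bijective.mp hinj))
    exact hi (hπ i)
  · push Not at hrow
    obtain ⟨i, hi⟩ := hrow
    exact Matrix.det_eq_zero_of_row_eq_zero i fun l => by rw [Matrix.of_apply, if_neg (hi l)]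

end Cyclic

end Groth.Agent.VerlindeC52
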