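import Groth.Agent.VerlindeC52.Basic
import Mathlib.Algebra.BigOperators.Fin

namespace Groth.Agent.VerlindeC52

open Finset Complex

variable {r N : ℕ}

/-- The embedding of residues. -/
def resMap (p : Fin r → Fin N) : Fin r → ZMod N := fun j => ((p j : ℕ) : ZMod N)

/-- The alcove representatives. -/
noncomputable def alcove (r N : ℕ) : Finset (Fin r → Fin N) :=
  open scoped Classical in
  univ.filter (fun v => StrictAnti v ∧ ∀ i : Fin r, (i : ℕ) = r - 1 → (v i : ℕ) = 0)

theorem mem_alcove {v : Fin r → Fin N} :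
    v ∈ alcove r N ↔ StrictAnti v ∧ ∀ i : Fin r, (i : ℕ) = r - 1 → (v i : ℕ) = 0 := by
  simp [alcove]

variable [NeZero N]

theorem alcove_mul_eq (A B : Fin r → ℤ) (hS : ∑ i, A i + ∑ i, B i = 0) (hr : 1 ≤ r) :
    (N : ℂ) * ∑ v ∈ alcove r N, zalt A (resMap v) * zalt B (resMap v) =
      (r : ℂ) * (Matrix.of fun i l => if ((A i + B l : ℤ) : ZMod N) = 0 then (N : ℂ) else 0).det := by
  classical
  let F : (Fin r → ZMod N) → ℂ := fun p => zalt A p * zalt B p
  let c : (Fin r → ZMod N) → ℂ := fun p => ∑ j, if p j = 0 then 1 else 0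
  have hshift : ∀ p d, F (fun j => p j + d) = F p := fun p d => by
    simp only [F, zalt_shift]
    rw [mul_mul_mul_comm, ← AddChar.map_add_eq_mul, ← add_mul, ← Int.cast_add, hS]
    simp
  have hperm : ∀ p (σ : Equiv.Perm (Fin r)), F (p ∘ σ) = F p := fun p σ => by
    simp only [F, zalt_perm]
    rw [mul_mul_mul_comm, ← Int.cast_mul, ← Units.val_mul, Int.units_mul_self, Units.val_one,
      Int.cast_one, one_mul]
  have hFc : (N : ℂ) * ∑ p, F p * c p = (r : ℂ) * ∑ p, F p := by
    have key : ∀ j : Fin r, (N : ℂ) * ∑ p, F p * (if p j = 0 then 1 else 0) = ∑ p, F p := by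
      intro j
      have h : ∀ d : ZMod N, ∑ p, F p * (if p j = d then 1 else 0) =
          ∑ p, F p * (if p j = 0 then 1 else 0) := by
        intro d
        symm
        refine Fintype.sum_equiv (Equiv.addRight (fun _ : Fin r => d)) _ _ fun p => ?_
        show _ = F (fun j => p j + d) * (if p j + d = d then 1 else 0)
        rw [hshift]
        simp
      calc (N : ℂ) * ∑ p, F p * (if p j = 0 then 1 else 0)
          = ∑ d : ZMod N, ∑ p, F p * (if p j = d then 1 else 0) := by
            simp only [h, Finset.sum_const, Finset.card_univ, ZMod.card, nsmul_eq_mul]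
        _ = ∑ p, F p := by
            rw [Finset.sum_comm]
            refine Finset.sum_congr rfl fun p _ => ?_
            simp [← Finset.mul_sum]
    have : (N : ℂ) * ∑ p, F p * c p = ∑ j : Fin r, (N : ℂ) * ∑ p, F p * (if p j = 0 then 1 else 0) := by
      simp only [c, Finset.mul_sum]
      exact Finset.sum_comm
    rw [this]
    simp only [key, Finset.sum_const, Finset.card_univ, Fintype.card_fin, nsmul_eq_mul]
  have hb : Function.Bijective (fun t : Fin N => ((t.val : ℕ) : ZMod N)) := by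
    rw [Fintype.bijective_iff_injective_and_card]
    refine ⟨fun a b h => Fin.ext ?_, by simp⟩
    have := congrArg ZMod.val h
    simpa [ZMod.val_natCast, Nat.mod_eq_of_lt a.isLt, Nat.mod_eq_of_lt b.isLt] using this
  let e : (Fin r → Fin N) ≃ (Fin r → ZMod N) :=
    Equiv.arrowCongr (Equiv.refl (Fin r)) (Equiv.ofBijective _ hb)
  have he : ∀ p, e p = resMap p := fun p => rfl
  have hsum : ∑ p, F p * c p = (r.factorial : ℂ) * ∑ v ∈ alcove r N, F (resMap v) := by
    rw [← e.sum_comp]
    simp only [he]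
    rw [sum_injective_eq_perm_mul (fun p : Fin r → Fin N => F (resMap p) * c (resMap p))]
    · congr 1
      unfold alcove
      conv_rhs => rw [← Finset.filter_filter, Finset.sum_filter]
      refine Finset.sum_congr rfl fun v hv => ?_
      have hv' : StrictAnti v := (Finset.mem_filter.mp hv).2
      have hz : ∀ j, resMap v j = 0 ↔ (v j : ℕ) = 0 := by
        intro j
        constructor
        · intro h
          have := congrArg ZMod.val h
          simpa [resMap, ZMod.val_natCast, Nat.mod_eq_of_lt (v j).isLt] using this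
        · intro h; simp [resMap, h]
      have honly : ∀ j : Fin r, (v j : ℕ) = 0 → (j : ℕ) = r - 1 := by
        intro j hj
        by_contra hne
        have h' : (j : ℕ) + 1 < r := by omega
        have := hv' (show j < ⟨(j : ℕ) + 1, h'⟩ from Fin.lt_def.mpr (by simp))
        rw [Fin.lt_def, hj] at this
        omega
      split_ifs with h
      · have : c (resMap v) = 1 := by
          show (∑ j, if resMap v j = 0 then (1 : ℂ) else 0) = 1
          rw [Finset.sum_eq_single (⟨r - 1, by omega⟩ : Fin r)]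
          · rw [if_pos ((hz _).mpr (h _ rfl))]
          · intro j _ hj
            rw [if_neg]
            intro h0
            exact hj (Fin.ext (honly j ((hz j).mp h0)))
          · simp
        rw [this, mul_one]
      · have : c (resMap v) = 0 := by
          refine Finset.sum_eq_zero fun j _ => if_neg fun h0 => h fun i hi => ?_
          have h1 := (hz j).mp h0
          rw [show i = j from Fin.ext (hi.trans (honly j h1).symm)]
          exact h1
        rw [this, mul_zero]
    · intro σ p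
      show F (resMap p ∘ σ) * c (resMap p ∘ σ) = F (resMap p) * c (resMap p)
      rw [hperm]
      congr 1
      exact Equiv.sum_comp σ (fun j => if resMap p j = 0 then (1 : ℂ) else 0)
    · intro p hp
      have : ¬ Function.Injective (resMap p) := fun h => hp fun a b hab => h (by simp [resMap, hab])
      simp [F, zalt_eq_zero A _ this]
  rw [hsum, sum_zalt_mul] at hFc
  have hf : (r.factorial : ℂ) ≠ 0 := Nat.cast_ne_zero.mpr r.factorial_ne_zero
  apply mul_left_cancel₀ hf
  linear_combination hFc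

theorem zalt_sub_const (A : Fin r → ℤ) (c : ℤ) (p : Fin r → ZMod N) :
    zalt (fun i => A i - c) p = (∏ j, ZMod.stdAddChar (-(c : ZMod N) * p j)) * zalt A p := by
  rw [zalt, zalt, ← Matrix.det_mul_row]
  congr 1
  ext i j
  simp only [Matrix.of_apply, ← AddChar.map_add_eq_mul]
  congr 1
  push_cast; ring

/-- The twisted summand. -/
noncomputable def twist (A B : Fin r → ℤ) (v : Fin r → ℤ) : ℂ :=
  Complex.exp (-(2 * Real.pi * I * ((∑ i, A i + ∑ i, B i : ℤ) : ℂ) * ((∑ j, v j : ℤ) : ℂ) / ((r : ℂ) * N))) *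
    zalt A (fun j => (v j : ZMod N)) * zalt B (fun j => (v j : ZMod N))

theorem twist_rot {q : ℕ} (A B : Fin (q + 2) → ℤ) (v : Fin (q + 2) → ℤ) (hl : v (Fin.last _) = 0) (t : ℤ) :
    twist (N := N) A B (Fin.cons (N - t) (fun j => v j.castSucc - t)) =
      Complex.exp (-(2 * Real.pi * I * ((∑ i, A i + ∑ i, B i : ℤ) : ℂ) / ((q + 2 : ℕ) : ℂ))) * twist (N := N) A B v := by
  set S : ℤ := ∑ i, A i + ∑ i, B i with hS
  have hsum : (∑ j, (Fin.cons ((N : ℤ) - t) (fun j => v j.castSucc - t) : Fin (q + 2) → ℤ) j) =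
      ∑ j, v j + (N : ℤ) - (q + 2 : ℕ) * t := by
    rw [Fin.sum_cons, Fin.sum_univ_castSucc v, hl, Finset.sum_sub_distrib]
    simp; ring
  let σ : Equiv.Perm (Fin (q + 2)) := (finRotate (q + 2)).symm
  have hp : (fun j => (((Fin.cons ((N : ℤ) - t) (fun j => v j.castSucc - t) : Fin (q + 2) → ℤ) j : ℤ) : ZMod N)) =
      fun j => ((fun j => (v j : ZMod N)) ∘ σ) j + ((-t : ℤ) : ZMod N) := by
    funext j
    refine Fin.cases ?_ (fun i => ?_) j
    · have : σ 0 = Fin.last _ := by
        show (finRotate (q + 2)).symm 0 = _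
        rw [Equiv.symm_apply_eq, finRotate_apply, Fin.last_add_one]
      simp [this, hl]
    · have : σ i.succ = i.castSucc := by
        show (finRotate (q + 2)).symm i.succ = _
        rw [Equiv.symm_apply_eq, finRotate_apply, Fin.coeSucc_eq_succ]
      simp [this, sub_eq_add_neg]
  simp only [twist, hp, zalt_shift, zalt_perm, hsum, ← hS]
  have hψ : ZMod.stdAddChar (((∑ i, A i : ℤ) : ZMod N) * ((-t : ℤ) : ZMod N)) *
      ZMod.stdAddChar (((∑ i, B i : ℤ) : ZMod N) * ((-t : ℤ) : ZMod N)) =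
      Complex.exp (-(2 * Real.pi * I * (S : ℂ) * (t : ℂ) / (N : ℂ))) := by
    rw [← AddChar.map_add_eq_mul, ← add_mul, ← Int.cast_add, ← Int.cast_mul, ZMod.stdAddChar_coe, ← hS]
    congr 1
    push_cast; ring
  have hsg : ((Equiv.Perm.sign σ : ℤ) : ℂ) * ((Equiv.Perm.sign σ : ℤ) : ℂ) = 1 := by
    rw [← Int.cast_mul, ← Units.val_mul, Int.units_mul_self, Units.val_one, Int.cast_one]
  have hN : (N : ℂ) ≠ 0 := NeZero.ne _
  have hq : ((q + 2 : ℕ) : ℂ) ≠ 0 := Nat.cast_ne_zero.mpr (by omega)
  have hexp : Complex.exp (-(2 * Real.pi * I * (S : ℂ) * ((∑ j, v j + (N : ℤ) - (q + 2 : ℕ) * t : ℤ) : ℂ) / (((q + 2 : ℕ) : ℂ) * N))) *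
      Complex.exp (-(2 * Real.pi * I * (S : ℂ) * (t : ℂ) / (N : ℂ))) =
      Complex.exp (-(2 * Real.pi * I * (S : ℂ) / ((q + 2 : ℕ) : ℂ))) *
        Complex.exp (-(2 * Real.pi * I * (S : ℂ) * ((∑ j, v j : ℤ) : ℂ) / (((q + 2 : ℕ) : ℂ) * N))) := by
    rw [← Complex.exp_add, ← Complex.exp_add]
    congr 1
    simp only [Int.cast_sub, Int.cast_add, Int.cast_mul, Int.cast_natCast]
    field_simp
    ring
  linear_combination
    ((ZMod.stdAddChar (N := N)) (((∑ i, A i : ℤ) : ZMod N) * ((-t : ℤ) : ZMod N)) * (ZMod.stdAddChar (N := N)) (((∑ i, B i : ℤ) : ZMod N) * ((-t : ℤ) : ZMod N)) *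
      Complex.exp (-(2 * Real.pi * I * (S : ℂ) * ((∑ j, v j + (N : ℤ) - (q + 2 : ℕ) * t : ℤ) : ℂ) / (((q + 2 : ℕ) : ℂ) * N))) *
      zalt A (fun j => (v j : ZMod N)) * zalt B (fun j => (v j : ZMod N))) * hsg
    + (Complex.exp (-(2 * Real.pi * I * (S : ℂ) * ((∑ j, v j + (N : ℤ) - (q + 2 : ℕ) * t : ℤ) : ℂ) / (((q + 2 : ℕ) : ℂ) * N))) *
      zalt A (fun j => (v j : ZMod N)) * zalt B (fun j => (v j : ZMod N))) * hψ
    + (zalt A (fun j => (v j : ZMod N)) * zalt B (fun j => (v j : ZMod N))) * hexp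

theorem sum_twist_eq_zero_of_not_dvd {q : ℕ} (A B : Fin (q + 2) → ℤ)
    (h : ¬ ((q + 2 : ℕ) : ℤ) ∣ (∑ i, A i + ∑ i, B i)) :
    ∑ v ∈ alcove (q + 2) N, twist (N := N) A B (fun j => ((v j : ℕ) : ℤ)) = 0 := by
  set χ := Complex.exp (-(2 * Real.pi * I * ((∑ i, A i + ∑ i, B i : ℤ) : ℂ) / ((q + 2 : ℕ) : ℂ))) with hχdef
  have hχ : χ ≠ 1 := by
    intro hc
    obtain ⟨n, hn⟩ := Complex.exp_eq_one_iff.mp hc
    apply h
    refine ⟨-n, ?_⟩
    have hq : ((q + 2 : ℕ) : ℂ) ≠ 0 := Nat.cast_ne_zero.mpr (by omega)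
    field_simp at hn
    have h2 : ((∑ i, A i + ∑ i, B i : ℤ) : ℂ) = (((q + 2 : ℕ) : ℤ) * -n : ℤ) := by
      simp only [Int.cast_mul, Int.cast_neg, Int.cast_natCast] at hn ⊢
      linear_combination -hn
    exact_mod_cast h2
  have ht : ∀ v ∈ alcove (q + 2) N, 0 < (v (Fin.last q).castSucc : ℕ) := by
    intro v hv
    have h1 := (mem_alcove.mp hv).1 (Fin.castSucc_lt_last (Fin.last q))
    rw [Fin.lt_def] at h1
    omega
  let w : (v : Fin (q + 2) → Fin N) → v ∈ alcove (q + 2) N → (Fin (q + 2) → Fin N) := fun v hv =>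
    Fin.cons ⟨N - v (Fin.last q).castSucc, by have := ht v hv; omega⟩
      (fun j => ⟨v j.castSucc - v (Fin.last q).castSucc, by omega⟩)
  have hge : ∀ v ∈ alcove (q + 2) N, ∀ j : Fin (q + 1), (v (Fin.last q).castSucc : ℕ) ≤ v j.castSucc := by
    intro v hv j
    exact Fin.le_def.mp ((mem_alcove.mp hv).1.antitone (Fin.castSucc_le_castSucc_iff.mpr (Fin.le_last j)))
  have hwmem : ∀ v hv, w v hv ∈ alcove (q + 2) N := by
    intro v hv
    rw [mem_alcove]
    refine ⟨?_, ?_⟩
    · rw [Fin.strictAnti_iff_succ_lt]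
      intro i
      refine Fin.cases ?_ (fun j => ?_) i
      · simp only [w, Fin.castSucc_zero, Fin.cons_zero, Fin.cons_succ, Fin.lt_def]
        have := ht v hv; have := (v (0 : Fin (q + 2))).isLt; have := hge v hv 0
        simp at this ⊢; omega
      · simp only [w, Fin.cons_succ, ← Fin.succ_castSucc, Fin.lt_def]
        have h1 := Fin.lt_def.mp ((mem_alcove.mp hv).1
          (Fin.castSucc_lt_castSucc_iff.mpr (Fin.castSucc_lt_succ (i := j))))
        have h2 := hge v hv j.succ
        simp only [← Fin.succ_castSucc] at h1 h2 ⊢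
        omega
    · intro i hi
      have : i = (Fin.last q).succ := Fin.ext (by simp; omega)
      subst this
      simp [w]
  have key : χ * ∑ v ∈ alcove (q + 2) N, twist (N := N) A B (fun j => ((v j : ℕ) : ℤ)) =
      ∑ v ∈ alcove (q + 2) N, twist (N := N) A B (fun j => ((v j : ℕ) : ℤ)) := by
    rw [Finset.mul_sum]
    have hinj : ∀ v hv v' hv', w v hv = w v' hv' → v = v' := by
      intro v hv v' hv' he
      have h0 := congrArg (fun f : Fin (q + 2) → Fin N => (f 0 : ℕ)) he
      simp only [w, Fin.cons_zero] at h0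
      have := ht v hv; have := ht v' hv'
      have := (v (Fin.last q).castSucc).isLt; have := (v' (Fin.last q).castSucc).isLt
      funext j
      refine Fin.lastCases ?_ (fun i => ?_) j
      · apply Fin.ext
        rw [(mem_alcove.mp hv).2 _ rfl, (mem_alcove.mp hv').2 _ rfl]
      · have h1 := congrArg (fun f : Fin (q + 2) → Fin N => (f i.succ : ℕ)) he
        simp only [w, Fin.cons_succ] at h1
        have := hge v hv i; have := hge v' hv' i
        apply Fin.ext; omega
    refine Finset.sum_bij w hwmem hinj ?_ ?_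
    · intro b hb
      exact Finset.surj_on_of_inj_on_of_card_le w hwmem (fun a₁ a₂ ha₁ ha₂ => hinj a₁ ha₁ a₂ ha₂) le_rfl b hb |>.imp fun a ⟨ha, e⟩ => ⟨ha, e.symm⟩
    · intro v hv
      rw [hχdef, ← twist_rot A B _ (by simpa using (mem_alcove.mp hv).2 _ rfl) ((v (Fin.last q).castSucc : ℕ) : ℤ)]
      congr 1
      funext j
      have := ht v hv
      refine Fin.cases ?_ (fun i => ?_) j
      · have := (v (Fin.last q).castSucc).isLt
        simp only [w, Fin.cons_zero]; omega
      · have := hge v hv i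
        simp only [w, Fin.cons_succ]; omega
  have : (χ - 1) * ∑ v ∈ alcove (q + 2) N, twist (N := N) A B (fun j => ((v j : ℕ) : ℤ)) = 0 := by
    linear_combination key
  exact (mul_eq_zero.mp this).resolve_left (sub_ne_zero.mpr hχ)

/-- Twisted orthogonality of alternants. -/
theorem sum_twist_eq_zero (hr : 1 ≤ r) (A B : Fin r → ℤ) (hA : StrictAnti A) (hB : StrictAnti B)
    (hA' : ∀ i j, A i - A j < N) (hB' : ∀ i j, B i - B j < N)
    (h : ¬ ∃ c : ℤ, ∀ i, A i + B (Fin.rev i) = c) :
    ∑ v ∈ alcove r N, twist (N := N) A B (fun j => ((v j : ℕ) : ℤ)) = 0 := by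
  rcases Nat.lt_or_ge r 2 with hr2 | hr2
  · exfalso
    apply h
    refine ⟨A ⟨0, by omega⟩ + B ⟨0, by omega⟩, fun i => ?_⟩
    rw [show i = ⟨0, by omega⟩ from Fin.ext (by omega), show Fin.rev (⟨0, by omega⟩ : Fin r) = ⟨0, by omega⟩ from Fin.ext (by simp; omega)]
  obtain ⟨q, rfl⟩ := Nat.exists_eq_add_of_le' hr2
  by_cases hdvd : ((q + 2 : ℕ) : ℤ) ∣ (∑ i, A i + ∑ i, B i)
  swap
  · exact sum_twist_eq_zero_of_not_dvd A B hdvd
  obtain ⟨c, hc⟩ := hdvd
  let A' : Fin (q + 2) → ℤ := fun i => A i - c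
  have hS : ∑ i, A' i + ∑ i, B i = 0 := by
    simp only [A', Finset.sum_sub_distrib, Finset.sum_const, Finset.card_univ, Fintype.card_fin, nsmul_eq_mul]
    linarith [hc]
  have hq : ((q + 2 : ℕ) : ℂ) ≠ 0 := Nat.cast_ne_zero.mpr (by omega)
  have hN : (N : ℂ) ≠ 0 := NeZero.ne _
  have heq : ∀ v : Fin (q + 2) → Fin N, twist (N := N) A B (fun j => ((v j : ℕ) : ℤ)) =
      zalt A' (resMap v) * zalt B (resMap v) := by
    intro v
    rw [zalt_sub_const]
    simp only [twist, resMap, Int.cast_natCast, hc]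
    congr 2
    have : ∀ j, ZMod.stdAddChar (-(c : ZMod N) * (((v j : ℕ) : ℕ) : ZMod N)) =
        Complex.exp (-(2 * Real.pi * I * (c : ℂ) * ((v j : ℕ) : ℂ) / (N : ℂ))) := by
      intro j
      rw [show -(c : ZMod N) * ((v j : ℕ) : ZMod N) = ((-c * ((v j : ℕ) : ℤ) : ℤ) : ZMod N) by push_cast; ring,
        ZMod.stdAddChar_coe]
      congr 1; push_cast; ring
    rw [Finset.prod_congr rfl (fun j _ => this j), ← Complex.exp_sum]
    congr 1
    simp only [Int.cast_mul, Int.cast_natCast, Int.cast_sum]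
    rw [Finset.sum_neg_distrib, ← Finset.sum_div, ← Finset.mul_sum]
    field_simp
  simp only [heq]
  have hinjA : Function.Injective fun i => (A' i : ZMod N) := by
    intro i j hij
    rw [ZMod.intCast_eq_intCast_iff_dvd_sub] at hij
    obtain ⟨m, hm⟩ := hij
    have h1 := hA' i j; have h2 := hA' j i
    simp only [A'] at hm
    have : m = 0 := by
      by_contra hne
      rcases lt_or_gt_of_ne hne with h3 | h3
      · have : (N : ℤ) * m ≤ -N := by nlinarith
        omega
      · have : (N : ℤ) * 1 ≤ N * m := by nlinarith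
        omega
    subst this
    exact hA.injective (by omega)
  have hdet := alcove_mul_eq (N := N) A' B hS (by omega)
  rw [det_match_eq_zero A' B hinjA ?_, mul_zero] at hdet
  · exact (mul_eq_zero.mp hdet).resolve_left hN
  intro π
  by_contra hall
  push Not at hall
  choose m hm using fun i => (ZMod.intCast_zmod_eq_zero_iff_dvd _ N).mp (hall i)
  have hsum0 : ∑ i, m i = 0 := by
    have h1 : ∑ i, (A' i + B (π i)) = 0 := by
      rw [Finset.sum_add_distrib, Equiv.sum_comp π B]; exact hS
    simp only [hm, ← Finset.mul_sum] at h1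
    exact (mul_eq_zero.mp h1).resolve_left (by exact_mod_cast NeZero.ne N)
  have hdiff : ∀ i j, m i - m j ≤ 1 := by
    intro i j
    have e1 := hm i; have e2 := hm j
    simp only [A'] at e1 e2
    have := hA' i j; have := hB' (π i) (π j)
    by_contra hgt
    push Not at hgt
    have : (N : ℤ) * 2 ≤ N * (m i - m j) := by nlinarith
    nlinarith
  have hm0 : ∀ i, m i = 0 := by
    intro i
    rcases lt_trichotomy (m i) 0 with hlt | he | hgt
    · exfalso
      have : ∑ j, m j < 0 := by
        refine Finset.sum_neg' (fun j _ => ?_) ⟨i, mem_univ i, hlt⟩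
        have := hdiff j i; omega
      omega
    · exact he
    · exfalso
      have : 0 < ∑ j, m j := by
        refine Finset.sum_pos' (fun j _ => ?_) ⟨i, mem_univ i, hgt⟩
        have := hdiff i j; omega
      omega
  have hanti : StrictAnti π := by
    intro i j hij
    have e1 := hm i; have e2 := hm j
    rw [hm0, mul_zero] at e1 e2
    simp only [A'] at e1 e2
    have := hA hij
    rcases lt_trichotomy (π i) (π j) with h1 | h1 | h1
    · exfalso
      have := hB h1
      omega
    · exact absurd (π.injective h1) hij.ne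
    · exact h1
  have hrev : ⇑π = Fin.rev :=
    (StrictAnti.range_inj hanti Fin.rev_strictAnti).mp (by
      rw [π.surjective.range_eq, Fin.rev_surjective.range_eq])
  refine h ⟨c, fun i => ?_⟩
  have e1 := hm i
  rw [hm0, mul_zero, hrev] at e1
  simp only [A'] at e1
  omega

end Groth.Agent.VerlindeC52
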